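import Cfsg.Agent.H713.Two.Sing_m3
import Cfsg.Agent.H153.ZerosSuz
import Cfsg.Agent.H323.SuzOutB
import Cfsg.Agent.H843.IMC.Frame3_m3
import Cfsg.Agent.S1680
import Cfsg.Agent.S2074
import Cfsg.Agent.FastGrp
import Cfsg.Agent.Prune
set_option linter.all false
open scoped Cfsg.Agent.FastGrp

/-!
# S4897: the row of `Suz` (helper978)

The permutation character on 1782 points is `1 + χ780 + χ1001`; it is invariant under all automorphisms. `χ1001` vanishes
at the elements of orders 7, 11, 13, and `χ780` at the two classes of elements of order 13 and at elements of order 21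
with one fixed point.
-/

set_option autoImplicit false
set_option maxRecDepth 100000
set_option exponentiation.threshold 4000

namespace Cfsg.Agent.H978.TZ.Suzuki

open Cfsg Subgroup Cfsg.Agent.H504.TwoZ Cfsg.Agent.H504.Zeros Cfsg.Agent.Characters.Core Cfsg.Agent.H671.H5
open Cfsg.Spor (Suz)
open Cfsg.Agent.Lib.PermNet Cfsg.Agent.Lib.PermNetOrbit Cfsg.Agent.SporadicRecognition.SuzPhi
  Cfsg.Agent.SporadicRecognition.SuzBound Cfsg.Agent.SporadicRecognition.SuzOrder
  Cfsg.Agent.SuzThree.Basic Cfsg.Agent.CpAutSuz.Fix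
open Cfsg.Agent.SporRec.SuzCl (Fx)
open Cfsg.Agent.H690.Spor.RankThree

/-- the stabilizer of the point 0 -/
abbrev H6 : Subgroup Suz := Subgroup.closure S6

theorem finS : Finite Suz := Nat.finite_of_card_ne_zero (by rw [card_Suz]; norm_num)

theorem trans_point {p : ℕ} (hp : p < 1782) : ∃ g : Suz, φ g 0 = p := Cfsg.Agent.S1680.trans_point p hp

theorem stab0 : H6.index = 1782 ∧ (∀ g : Suz, φ g 0 = 0 ↔ g ∈ H6) ∧ (∀ g : Suz, φ g 0 < 1782) := by
  have := finS
  obtain ⟨h1, -⟩ := Cfsg.Agent.S1680.S6_main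
  exact index_eq_of_action H6 φ 1782 fix_S6 (fun i hi => trans_point hi) h1.le (by rw [h1]; norm_num)

/-- the point of a coset -/
noncomputable def pnt : Suz ⧸ H6 → ℕ := Quotient.lift (fun g : Suz => φ g 0) (by
  intro a b hab
  have h1 : a⁻¹ * b ∈ H6 := QuotientGroup.leftRel_apply.1 hab
  have h2 : φ (a⁻¹ * b) 0 = 0 := (stab0.2.1 _).2 h1
  rw [map_mul, map_inv, Equiv.Perm.mul_apply, Equiv.Perm.inv_eq_iff_eq] at h2
  exact h2.symm)

theorem pnt_mk (g : Suz) : pnt (g : Suz ⧸ H6) = φ g 0 := rfl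

theorem pnt_lt (q : Suz ⧸ H6) : pnt q < 1782 := by
  induction q using QuotientGroup.induction_on with
  | H g => exact stab0.2.2 g

theorem pnt_smul (g : Suz) (q : Suz ⧸ H6) : pnt (g • q) = φ g (pnt q) := by
  induction q using QuotientGroup.induction_on with
  | H x =>
    show φ (g * x) 0 = φ g (φ x 0)
    rw [map_mul, Equiv.Perm.mul_apply]

theorem pnt_injective : Function.Injective pnt := by
  intro x y
  refine QuotientGroup.induction_on x fun a => ?_
  refine QuotientGroup.induction_on y fun b => ?_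
  intro h
  rw [QuotientGroup.eq, ← stab0.2.1, map_mul, map_inv, Equiv.Perm.mul_apply, Equiv.Perm.inv_eq_iff_eq]
  exact h.symm

theorem card_fixedBy (g : Suz) : Nat.card (MulAction.fixedBy (Suz ⧸ H6) g) = (Fx g).card := by
  rw [← Fintype.card_coe, ← Nat.card_eq_fintype_card]
  let f : MulAction.fixedBy (Suz ⧸ H6) g → Fx g := fun q => ⟨pnt q.1, by
    rw [mem_Fx]
    refine ⟨pnt_lt _, ?_⟩
    rw [← pnt_smul]
    exact congrArg pnt q.2⟩
  refine Nat.card_eq_of_bijective f ⟨fun a b hab => ?_, fun p => ?_⟩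
  · exact Subtype.ext (pnt_injective (congrArg Subtype.val hab))
  · obtain ⟨p, hp⟩ := p
    rw [mem_Fx] at hp
    obtain ⟨x, hx⟩ := trans_point hp.1
    refine ⟨⟨(x : Suz ⧸ H6), ?_⟩, Subtype.ext hx⟩
    apply pnt_injective
    rw [pnt_smul, pnt_mk, hx, hp.2]

/-- automorphisms preserve the number of fixed points -/
theorem card_Fx_aut (α : MulAut Suz) (g : Suz) : (Fx (α g)).card = (Fx g).card := by
  have h0 : ∀ x : Suz, (Fx x).card = (Cfsg.Agent.H323.SuzOut.DF (Cfsg.Agent.OddHalf.Table.SuzRep.ψ x)).card := by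
    intro x
    refine congrArg Finset.card (Finset.ext fun p => ?_)
    rw [mem_Fx, Cfsg.Agent.H323.SuzOut.mem_DF]
    constructor
    · rintro ⟨h1, h2⟩
      exact ⟨h1, by rw [Cfsg.Agent.H323.SuzOut.ev_ψ x h1]; exact h2⟩
    · rintro ⟨h1, h2⟩
      exact ⟨h1, by rw [Cfsg.Agent.H323.SuzOut.ev_ψ x h1] at h2; exact h2⟩
  obtain ⟨τ, hτ⟩ := Cfsg.Agent.H323.SuzOut.exists_τ
  have h1 : ∀ x, (Fx (τ x)).card = (Fx x).card := by
    intro x
    rw [h0, h0, hτ, Cfsg.Agent.H323.SuzOut.card_DF_conj]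
  have h2 : ∀ (n x : Suz), (Fx (MulAut.conj n x)).card = (Fx x).card := by
    intro n x
    rw [MulAut.conj_apply, Cfsg.Agent.SporRec.SuzCl.card_Fx_conj]
  have hidx : (Inn Suz).index = 2 := Cfsg.Agent.S2074.result
  by_cases hα : α ∈ Inn Suz
  · obtain ⟨n, rfl⟩ := hα
    exact h2 n g
  · have hτn : τ ∉ Inn Suz := by
      rintro ⟨n, hn⟩
      exact Cfsg.Agent.H323.SuzOut.τ_outer hτ n hn.symm
    have h3 : α * τ⁻¹ ∈ Inn Suz := by
      rw [Subgroup.mul_mem_iff_of_index_two hidx]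
      simp [hα, hτn]
    obtain ⟨n, hn⟩ := h3
    have h4 : α = MulAut.conj n * τ := by rw [hn]; group
    rw [h4, MulAut.mul_apply, h2, h1]

theorem num : ∀ f < 1782, 1011890880 % (f * (1781 - f)) = 0 → ∀ c < 760, f * (1781 - f) * (c * c) = 1011890880 →
    f = 780 ∨ f = 1001 := by
  have key : ∀ (P : ℕ → Bool) (n : ℕ), (Nat.rec true (fun m ih => Bool.rec false ih (P m)) n : Bool) = true →
      ∀ m < n, P m = true := by
    intro P n
    induction n with
    | zero => exact fun _ m hm => absurd hm (Nat.not_lt_zero m)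
    | succ n ih =>
      intro h m hm
      have h1 : (Bool.rec false (Nat.rec true (fun m ih => Bool.rec false ih (P m)) n) (P n) : Bool) = true := h
      cases e : P n
      · rw [e] at h1; cases h1
      · rw [e] at h1
        rcases Nat.lt_succ_iff_lt_or_eq.1 hm with h2 | rfl
        · exact ih h1 m h2
        · exact e
  intro f hf h0 c _ h
  have h1 := key (fun f => Bool.rec true (Bool.rec (Bool.rec (Bool.not (Nat.beq (Nat.mul (Nat.mul f (Nat.sub 1781 f))
    (Nat.pow (Nat.sqrt (Nat.div 1011890880 (Nat.mul f (Nat.sub 1781 f)))) 2)) 1011890880)) true (Nat.beq f 1001)) true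
    (Nat.beq f 780)) (Nat.beq (Nat.mod 1011890880 (Nat.mul f (Nat.sub 1781 f))) 0)) 1782 (by decide +kernel) f hf
  have h2 : 0 < f * (1781 - f) := Nat.pos_of_ne_zero fun e => by rw [e, Nat.zero_mul] at h; cases h
  have h3 : Nat.beq (Nat.mod 1011890880 (Nat.mul f (Nat.sub 1781 f))) 0 = true := Nat.beq_eq.mpr h0
  have h4 : Nat.beq (Nat.mul (Nat.mul f (Nat.sub 1781 f))
      (Nat.pow (Nat.sqrt (Nat.div 1011890880 (Nat.mul f (Nat.sub 1781 f)))) 2)) 1011890880 = true := by
    refine Nat.beq_eq.mpr ?_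
    show f * (1781 - f) * Nat.sqrt (1011890880 / (f * (1781 - f))) ^ 2 = _
    rw [Nat.div_eq_of_eq_mul_right h2 h.symm, Nat.sqrt_eq, pow_two, h]
  beta_reduce at h1
  rw [h3, h4] at h1
  cases e1 : Nat.beq f 780
  · cases e2 : Nat.beq f 1001
    · rw [e1, e2] at h1; cases h1
    · exact Or.inr (Nat.eq_of_beq_eq_true e2)
  · exact Or.inl (Nat.eq_of_beq_eq_true e1)

/-- a character is determined by its degree in a sum `1 + χ₁ + χ₂` -/
theorem eq_of_sum {G : Type*} [Group G] [Finite G] {χ₁ χ₂ ψ₁ ψ₂ : G → ℂ} (h1 : IsIrrCharacter G χ₁)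
    (h2 : IsIrrCharacter G χ₂) (k1 : IsIrrCharacter G ψ₁) (k2 : IsIrrCharacter G ψ₂)
    (h : ∀ x, 1 + χ₁ x + χ₂ x = 1 + ψ₁ x + ψ₂ x) (hd : χ₁ 1 ≠ ψ₂ 1) (hd1 : ψ₁ 1 ≠ ψ₂ 1) : χ₂ = ψ₂ := by
  classical
  have := Fintype.ofFinite G
  have e : χ₁ + χ₂ = ψ₁ + ψ₂ := by
    funext x
    have := h x
    show χ₁ x + χ₂ x = ψ₁ x + ψ₂ x
    linear_combination this
  have h3 := congrArg (fun f => classInner f ψ₂) e
  simp only [classInner_add_left] at h3
  rw [classInner_irr_ne h1 k2 (fun h => hd (congrFun h 1)), classInner_irr_ne k1 k2 (fun h => hd1 (congrFun h 1)),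
    classInner_irr_self k2, zero_add, zero_add] at h3
  by_contra hne
  rw [classInner_irr_ne h2 k2 hne] at h3
  exact zero_ne_one h3

theorem exists_chars : ∃ χ₁ χ₂ : IrrCharacter Suz, (χ₁ : Suz → ℂ) 1 = 780 ∧ (χ₂ : Suz → ℂ) 1 = 1001 ∧
    ∀ x, ((Fx x).card : ℂ) = 1 + (χ₁ : Suz → ℂ) x + (χ₂ : Suz → ℂ) x := by
  classical
  have := finS
  obtain ⟨h1, q₁, q₂, h2, h3⟩ := Cfsg.Agent.S1680.S6_main
  obtain ⟨R, hR⟩ := R3.of_index H6 (k := 416) (l := 1365) (by rw [h1]) h2 h3 (by norm_num) (by norm_num) (by norm_num)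
  have := Fintype.ofFinite (Suz ⧸ H6)
  obtain ⟨χ₁, χ₂, f, g, D, e1, e2, e3, e4, e5, e6⟩ := Cfsg.Agent.H843.IMC.Frame3.frame_int hR
  have hfx : ∀ x, ((Fx x).card : ℂ) = 1 + (χ₁ : Suz → ℂ) x + (χ₂ : Suz → ℂ) x := by
    intro x
    rw [← e3, card_fixedBy]
  have hfg : f ≠ g := by omega
  obtain ⟨c, -, hc, -⟩ := e6 hfg
  have hg : g = 1781 - f := by omega
  subst hg
  have hD : D = c.natAbs * c.natAbs := by
    have : (D : ℤ) = ((c.natAbs * c.natAbs : ℕ) : ℤ) := by rw [hc, Nat.cast_mul, Int.natCast_natAbs, abs_mul_abs_self, pow_two]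
    exact_mod_cast this
  have hN : f * (1781 - f) * D = 1011890880 := by rw [e5]
  have hf0 : f ≠ 0 := by rintro rfl; simp at hN
  have hf1 : f < 1781 := by
    by_contra hge
    rw [show 1781 - f = 0 by omega] at hN
    simp at hN
  have hc170 : c.natAbs < 760 := by
    by_contra hge
    push Not at hge
    have h5 : 760 * 760 ≤ D := by rw [hD]; exact Nat.mul_le_mul hge hge
    have h6 : 1780 ≤ f * (1781 - f) := by
      obtain ⟨u, hu⟩ : ∃ u, f = u + 1 := ⟨f - 1, by omega⟩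
      obtain ⟨v, hv⟩ : ∃ v, 1781 - f = v + 1 := ⟨1781 - f - 1, by omega⟩
      have huv : u + v = 1779 := by omega
      rw [hv, hu]
      nlinarith [Nat.zero_le (u * v)]
    have h7 := Nat.mul_le_mul h6 h5
    rw [hN] at h7
    norm_num at h7
  rcases num f (by omega) (by rw [← hN]; exact Nat.mul_mod_right _ _) c.natAbs hc170 (by rw [← hD]; exact hN) with h | h
  · refine ⟨χ₁, χ₂, by rw [e1, h]; norm_num, by rw [e2, h]; norm_num, hfx⟩
  · refine ⟨χ₂, χ₁, by rw [e2, h]; norm_num, by rw [e1, h]; norm_num, fun x => ?_⟩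
    rw [hfx]; ring

theorem fx21 : (Fx (el [.b, .e, .c, .g, .d, .a])).card = 1 := card_Fx_rep (Rep.el _) (by decide +kernel)

theorem ord21 : orderOf (el [.b, .e, .c, .g, .d, .a]) = 21 := by
  refine orderOf_eq_of_pow_and_pow_div_prime (by norm_num) ?_ ?_
  · rw [el_pow]
    exact eq_of_reps (Rep.el _) Rep.one (by decide +kernel)
  · intro p hp hd
    have h1 : p ∈ Nat.primeFactors 21 := Nat.mem_primeFactors.2 ⟨hp, hd, by norm_num⟩
    rw [show Nat.primeFactors 21 = {3, 7} by decide +kernel] at h1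
    simp only [Finset.mem_insert, Finset.mem_singleton] at h1
    rcases h1 with rfl | rfl
    · rw [show 21 / 3 = 7 from rfl, el_pow]
      exact ne_one_of_mv (Rep.el _) (p := 0) (q := 1501) (by decide +kernel) (by norm_num)
    · rw [show 21 / 7 = 3 from rfl, el_pow]
      exact ne_one_of_mv (Rep.el _) (p := 0) (q := 117) (by decide +kernel) (by norm_num)

theorem rowT : RowT Suz := by
  have := finS
  obtain ⟨χ, ψ, h1, h2, hfx⟩ := exists_chars
  have dχ : charDegree (χ : Suz → ℂ) = 780 := Cfsg.Agent.H670.PSing.charDegree_eq_of (by rw [h1]; norm_num)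
  have dψ : charDegree (ψ : Suz → ℂ) = 1001 := Cfsg.Agent.H670.PSing.charDegree_eq_of (by rw [h2]; norm_num)
  have c := card_Suz
  have hz : ∀ p : ℕ, p.Prime → p ∣ 1001 → ∀ x : Suz, p ∣ orderOf x → (ψ : Suz → ℂ) x = 0 := by
    intro p hp hd x hx
    have h3 : p ∣ 7 * 11 * 13 := by norm_num; exact hd
    refine zero_of_dvd hp ?_ (by rw [dψ]; exact hd) hx
    rw [c]
    rcases (hp.dvd_mul).1 h3 with h4 | h4
    · rcases (hp.dvd_mul).1 h4 with h5 | h5
      · rw [(Nat.prime_dvd_prime_iff_eq hp (by norm_num)).1 h5]; norm_num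
      · rw [(Nat.prime_dvd_prime_iff_eq hp (by norm_num)).1 h5]; norm_num
    · rw [(Nat.prime_dvd_prime_iff_eq hp (by norm_num)).1 h4]; norm_num
  have ords : ∀ n ∈ ({7, 11, 13} : Finset ℕ), ∃ g : Suz, orderOf g = n := by
    intro n hn
    have hn' : n.Prime ∧ n ∣ Nat.card Suz := by
      simp only [Finset.mem_insert, Finset.mem_singleton] at hn
      rw [c]
      rcases hn with rfl | rfl | rfl <;> norm_num
    have : Fact n.Prime := ⟨hn'.1⟩
    exact exists_prime_orderOf_dvd_card' n hn'.2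
  have hord : ∀ g : Suz, orderOf g ∈ ({7, 11, 13} : Finset ℕ) → (ψ : Suz → ℂ) g = 0 := by
    intro g hg
    simp only [Finset.mem_insert, Finset.mem_singleton] at hg
    rcases hg with h | h | h
    · exact hz 7 (by norm_num) (by norm_num) g (by rw [h])
    · exact hz 11 (by norm_num) (by norm_num) g (by rw [h])
    · exact hz 13 (by norm_num) (by norm_num) g (by rw [h])
  constructor
  · left
    refine ⟨χ, ψ, ?_, ?_, ?_⟩
    · rintro rfl
      omega
    · obtain ⟨x, hx⟩ := ords 13 (by decide)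
      refine three_of_isolated (r := 13) (n := 34488115200) (e := 6) (m := 2) (by norm_num) hx
        (Cfsg.Agent.H153.Zeros.card_cent_suz hx) (by rw [c]) (by rw [c]; norm_num) (by norm_num) (by norm_num)
        (by norm_num) (by rw [dχ]; norm_num) (y := el [.b, .e, .c, .g, .d, .a]) ?_ (by rw [ord21]; norm_num)
      have h3 := hfx (el [.b, .e, .c, .g, .d, .a])
      rw [fx21, hz 7 (by norm_num) (by norm_num) _ (by rw [ord21]; norm_num)] at h3
      push_cast at h3
      linear_combination -h3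
    · exact three_of_orders {7, 11, 13} (by decide) fun n hn => by
        obtain ⟨g, hg⟩ := ords n hn
        exact ⟨g, hg, hord g (by rw [hg]; exact hn)⟩
  · obtain ⟨s, hs, hsc, hso⟩ := autNC_of_orders (S := Suz) {7, 11, 13} ords
    refine row2_of_out_two (θ := ψ) Cfsg.Agent.S2074.result.le ?_ s hs (fun x hx => hord x (hso x hx)) (by rw [hsc]; decide)
    intro φ
    have k1 : IsIrrCharacter Suz ((χ : Suz → ℂ) ∘ φ) := isIrr_comp (φ : Suz →* Suz) φ.surjective χ.2
    have k2 : IsIrrCharacter Suz ((ψ : Suz → ℂ) ∘ φ) := isIrr_comp (φ : Suz →* Suz) φ.surjective ψ.2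
    refine (eq_of_sum χ.2 ψ.2 k1 k2 (fun x => ?_) ?_ ?_).symm
    · rw [← hfx]
      show _ = 1 + (χ : Suz → ℂ) (φ x) + (ψ : Suz → ℂ) (φ x)
      rw [← hfx, card_Fx_aut]
    · show (χ : Suz → ℂ) 1 ≠ (ψ : Suz → ℂ) (φ 1)
      rw [map_one, h1, h2]
      norm_num
    · show (χ : Suz → ℂ) (φ 1) ≠ (ψ : Suz → ℂ) (φ 1)
      rw [map_one, h1, h2]
      norm_num

/-- **the row of `Suz`** -/
theorem suz {S : Type} [Group S] (h : Spor.IsoSuz S) : RowT S := by
  obtain ⟨e⟩ := h
  have := finS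
  have : Finite S := Finite.of_equiv _ e.symm.toEquiv
  exact RowT.of_equiv e rowT

end Cfsg.Agent.H978.TZ.Suzuki
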